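import Groth.Agent.Et18.Descent0.ClosedPoint
import Mathlib.Algebra.Homology.DerivedCategory.Ext.ExactSequences

/-!
# `Ext` out of extensions by zero: generic facts
-/

set_option autoImplicit false
set_option linter.all false
set_option backward.isDefEq.respectTransparency.types false
set_option backward.isDefEq.respectTransparency false
set_option backward.defeqAttrib.useBackward true
set_option synthInstance.maxHeartbeats 400000
set_option maxHeartbeats 800000

universe v₁ u₁ v₂ u₂ v₃ u₃ w₁ w₂ w₃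

open CategoryTheory CategoryTheory.Limits CategoryTheory.Abelian
open Groth.Agent.Et18.Descent0

namespace Groth.Agent.EtMV

variable {A : Type u₁} [Category.{v₁} A] [Abelian A] [HasExt.{w₁} A] [EnoughInjectives A]
  {B : Type u₂} [Category.{v₂} B] [Abelian B] [HasExt.{w₂} B]

variable {C : Type u₃} [Category.{v₃} C] [Abelian C] [HasExt.{w₃} C]

/-- A composite of exact functors mapping to a third one acts compatibly on `Ext`. -/
theorem ext_natural₂ (P : A ⥤ B) [P.Additive] [PreservesFiniteLimits P] [PreservesFiniteColimits P]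
    (K : B ⥤ C) [K.Additive] [PreservesFiniteLimits K] [PreservesFiniteColimits K]
    (Q : A ⥤ C) [Q.Additive] [PreservesFiniteLimits Q] [PreservesFiniteColimits Q] (τ : P ⋙ K ⟶ Q) {Z : A} (n : ℕ) :
    ∀ (G : A) (x : Ext.{w₁} Z G n),
      (Ext.mapExactFunctor.{w₂, w₃} K (Ext.mapExactFunctor.{w₁, w₂} P x)).comp (Ext.mk₀ (τ.app G)) (add_zero n) =
        (Ext.mk₀ (τ.app Z)).comp (Ext.mapExactFunctor.{w₁, w₃} Q x) (zero_add n) := by
  induction n with
  | zero =>
    intro G x
    obtain ⟨g, rfl⟩ := (Ext.mk₀_bijective _ _).2 x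
    rw [Ext.mapExactFunctor_mk₀, Ext.mapExactFunctor_mk₀, Ext.mapExactFunctor_mk₀, Ext.mk₀_comp_mk₀, Ext.mk₀_comp_mk₀]
    exact congrArg Ext.mk₀ (τ.naturality g)
  | succ n ih =>
    intro G x
    let S : ShortComplex A := ShortComplex.mk (Injective.ι G) (cokernel.π (Injective.ι G)) (by simp)
    have hS : S.ShortExact := { exact := ShortComplex.exact_cokernel (Injective.ι G) }
    obtain ⟨y, rfl⟩ := Ext.covariant_sequence_exact₁ Z hS x (Ext.eq_zero_of_injective _) rfl
    have hp : ((S.map P).map K).ShortExact := (hS.map_of_exact P).map_of_exact K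
    have hq : (S.map Q).ShortExact := hS.map_of_exact Q
    let φ : (S.map P).map K ⟶ S.map Q :=
      { τ₁ := τ.app S.X₁
        τ₂ := τ.app S.X₂
        τ₃ := τ.app S.X₃
        comm₁₂ := (τ.naturality S.f).symm
        comm₂₃ := (τ.naturality S.g).symm }
    have hφ : (Ext.mk₀ (τ.app S.X₃)).comp hq.extClass (zero_add 1) =
        hp.extClass.comp (Ext.mk₀ (τ.app S.X₁)) (add_zero 1) :=
      (ShortComplex.ShortExact.extClass_naturality hp hq φ).symm
    rw [Ext.mapExactFunctor_comp, Ext.mapExactFunctor_comp, Ext.mapExactFunctor_comp, Ext.mapExactFunctor_extClass,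
      Ext.mapExactFunctor_extClass, Ext.mapExactFunctor_extClass]
    rw [Ext.comp_assoc_of_third_deg_zero]
    erw [← hφ]
    rw [← Ext.comp_assoc_of_second_deg_zero, ih]
    exact Ext.comp_assoc _ _ _ (zero_add n) rfl (by omega)

variable (R : A ⥤ B) [R.Additive] [PreservesFiniteLimits R] [PreservesFiniteColimits R]

/-- Restriction along a map into an image. -/
noncomputable def res {Z : A} {c : B} (α : c ⟶ R.obj Z) {F : A} (n : ℕ) :
    Ext.{w₁} Z F n →+ Ext.{w₂} c (R.obj F) n :=
  AddMonoidHom.comp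
    (AddMonoidHom.mk' (fun e => (Ext.mk₀ α).comp e (zero_add n)) (fun _ _ => Ext.comp_add _ _ _ _))
    (R.mapExtAddHom Z F n)

omit [EnoughInjectives A] in
theorem res_apply {Z : A} {c : B} (α : c ⟶ R.obj Z) {F : A} (n : ℕ) (z : Ext.{w₁} Z F n) :
    res R α n z = (Ext.mk₀ α).comp (Ext.mapExactFunctor.{w₁, w₂} R z) (zero_add n) := rfl

omit [EnoughInjectives A] in
/-- Restriction is contravariant in the source. -/
theorem res_comp {Z Z' : A} {c : B} (α : c ⟶ R.obj Z') (a : Z' ⟶ Z) {F : A} (n : ℕ) (z : Ext.{w₁} Z F n) :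
    res R α n ((Ext.mk₀ a).comp z (zero_add n)) = res R (α ≫ R.map a) n z := by
  rw [res_apply, res_apply, Ext.mapExactFunctor_comp, Ext.mapExactFunctor_mk₀, Ext.mk₀_comp_mk₀_assoc]

omit [EnoughInjectives A] in
theorem res_comp' {Z Z' : A} {c : B} (α : c ⟶ R.obj Z') (a : Z' ⟶ Z) (β : c ⟶ R.obj Z) (h : α ≫ R.map a = β)
    {F : A} (n : ℕ) (z : Ext.{w₁} Z F n) :
    res R α n ((Ext.mk₀ a).comp z (zero_add n)) = res R β n z := by
  rw [res_comp, h]

variable [EnoughInjectives B] {L : B ⥤ A} [L.Additive] [PreservesFiniteLimits L] [PreservesFiniteColimits L]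

/-- For an adjunction of exact functors restriction along the unit is bijective. -/
theorem res_unit_bijective (adj : L ⊣ R) (c : B) (F : A) (n : ℕ) :
    Function.Bijective (res R (adj.unit.app c) (F := F) n : Ext.{w₁} (L.obj c) F n →+ Ext.{w₂} c (R.obj F) n) := by
  refine Function.bijective_iff_has_inverse.2 ⟨fun y => (Ext.mapExactFunctor.{w₂, w₁} L y).comp
    (Ext.mk₀ (adj.counit.app F)) (add_zero n), fun x => ?_, fun y => ?_⟩
  · dsimp only
    rw [res_apply, Ext.mapExactFunctor_comp, Ext.mapExactFunctor_mk₀, Ext.comp_assoc_of_third_deg_zero]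
    erw [ext_map_map_app R L adj.counit n F x]
    rw [Ext.mk₀_comp_mk₀_assoc]
    erw [adj.left_triangle_components]
    exact Ext.mk₀_id_comp x
  · dsimp only
    rw [res_apply, Ext.mapExactFunctor_comp, Ext.mapExactFunctor_mk₀, ← Ext.comp_assoc_of_third_deg_zero]
    erw [ext_app_map_map L R adj.unit n (R.obj F) y]
    rw [Ext.comp_assoc_of_second_deg_zero, Ext.mk₀_comp_mk₀]
    erw [adj.right_triangle_components]
    exact Ext.comp_mk₀_id y

omit [EnoughInjectives B] in
/-- Iterated restriction. -/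
theorem res_res (R₁ : A ⥤ B) [R₁.Additive] [PreservesFiniteLimits R₁] [PreservesFiniteColimits R₁]
    (K : B ⥤ C) [K.Additive] [PreservesFiniteLimits K] [PreservesFiniteColimits K]
    (Q : A ⥤ C) [Q.Additive] [PreservesFiniteLimits Q] [PreservesFiniteColimits Q] (τ : R₁ ⋙ K ⟶ Q)
    {Z : A} {c : B} (α : c ⟶ R₁.obj Z) {d : C} (φ : d ⟶ K.obj c) (β : d ⟶ Q.obj Z)
    (h : φ ≫ K.map α ≫ τ.app Z = β) {F : A} (n : ℕ) (z : Ext.{w₁} Z F n) :
    (res K φ n (res R₁ α n z)).comp (Ext.mk₀ (τ.app F)) (add_zero n) = res Q β n z := by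
  rw [res_apply, res_apply, res_apply, Ext.mapExactFunctor_comp, Ext.mapExactFunctor_mk₀, Ext.mk₀_comp_mk₀_assoc,
    Ext.comp_assoc_of_third_deg_zero]
  have key := ext_natural₂ R₁ K Q τ n F z
  refine (congrArg (fun t => (Ext.mk₀ (φ ≫ K.map α)).comp t (zero_add n)) key).trans ?_
  exact (Ext.mk₀_comp_mk₀_assoc _ _ _).trans (by rw [Category.assoc, h])

end Groth.Agent.EtMV
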