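import Groth.Agent.EtLimit.Via
import Groth.Prelude.Def_EtCore

/-!
# Inverse images of constant sheaves compose
-/

set_option autoImplicit false
set_option linter.all false
set_option backward.isDefEq.respectTransparency.types false
set_option backward.isDefEq.respectTransparency false
set_option backward.defeqAttrib.useBackward true
set_option synthInstance.maxHeartbeats 400000
set_option maxHeartbeats 1000000

universe u

open CategoryTheory Limits AlgebraicGeometry Opposite
open Groth.Agent.EtLimit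

namespace Groth.Agent.EtMV

variable {X Y Z : Scheme.{u}}

/-- The global section defined by a morphism out of a constant sheaf. -/
noncomputable abbrev sec (M : AddCommGrpCat.{u + 1}) {G : EtCoh.Ab X}
    (m : (constantSheaf X.smallEtaleTopology AddCommGrpCat.{u + 1}).obj M ⟶ G) : M ⟶ G.obj.obj (op (EtCoh.top X)) :=
  (EtCore.constAdj X).homEquiv M G m

theorem sec_pullConst (f : X ⟶ Y) (M : AddCommGrpCat.{u + 1}) :
    sec M ((EtCore.pullConstIso f).inv.app M) =
      ((EtCore.constAdj Y).unit.app M ≫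
        ((EtCoh.pullPushAdj f).unit.app ((constantSheaf Y.smallEtaleTopology AddCommGrpCat.{u + 1}).obj M)).hom.app
          (op (EtCoh.top Y))) ≫
        ((EtCoh.pull f).obj ((constantSheaf Y.smallEtaleTopology AddCommGrpCat.{u + 1}).obj M)).obj.map
          (EtCore.bcTopIso f).inv.op := by
  let adj₁ := (((EtCore.constAdj Y).comp (EtCoh.pullPushAdj f)).ofNatIsoRight (EtCore.pushGsecIso f))
  have h : (EtCore.pullConstIso f).inv = ((EtCore.constAdj X).leftAdjointUniq adj₁).hom := by
    refine (cancel_epi (EtCore.pullConstIso f).hom).1 ?_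
    rw [Iso.hom_inv_id]
    exact ((Adjunction.leftAdjointUniq_trans adj₁ (EtCore.constAdj X) adj₁).trans (Adjunction.leftAdjointUniq_refl adj₁)).symm
  rw [sec, h, Adjunction.homEquiv_leftAdjointUniq_hom_app]
  rfl

/-- Sections of a pulled back morphism out of a constant sheaf. -/
theorem sec_pull (f : X ⟶ Y) (M : AddCommGrpCat.{u + 1}) {G : EtCoh.Ab Y} {N : EtCoh.Ab X}
    (a : (constantSheaf Y.smallEtaleTopology AddCommGrpCat.{u + 1}).obj M ⟶ G) (b : (EtCoh.pull f).obj G ⟶ N) (x : M) :
    sec M ((EtCore.pullConstIso f).inv.app M ≫ (EtCoh.pull f).map a ≫ b) x =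
      N.obj.map (EtCore.bcTopIso f).inv.op (adjSect f b (EtCoh.top Y) (sec M a x)) := by
  have h1 : sec M ((EtCore.pullConstIso f).inv.app M ≫ (EtCoh.pull f).map a ≫ b) =
      sec M ((EtCore.pullConstIso f).inv.app M) ≫ ((EtCoh.pull f).map a ≫ b).hom.app (op (EtCoh.top X)) :=
    (EtCore.constAdj X).homEquiv_naturality_right _ _
  rw [h1, sec_pullConst]
  let m := (EtCoh.pull f).map a ≫ b
  have h2 : (EtCoh.pullPushAdj f).unit.app _ ≫ (EtCoh.push f).map m = a ≫ (EtCoh.pullPushAdj f).homEquiv G N b :=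
    ((EtCoh.pullPushAdj f).homEquiv_unit _ _ m).symm.trans ((EtCoh.pullPushAdj f).homEquiv_naturality_left a b)
  have h3 : sec M a = (EtCore.constAdj Y).unit.app M ≫ a.hom.app (op (EtCoh.top Y)) :=
    (EtCore.constAdj Y).homEquiv_unit M G a
  rw [h3]
  simp only [ConcreteCategory.comp_apply]
  have h4 := NatTrans.naturality_apply m.hom (EtCore.bcTopIso f).inv.op
    (((EtCoh.pullPushAdj f).unit.app _).hom.app (op (EtCoh.top Y)) ((EtCore.constAdj Y).unit.app M x))
  refine h4.trans (congrArg _ ?_)
  exact ConcreteCategory.congr_hom (congrArg (fun q => q.hom.app (op (EtCoh.top Y))) h2) ((EtCore.constAdj Y).unit.app M x)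

/-- The identifications of pulled back constant sheaves are compatible with composition. -/
theorem pullConst_via (k : X ⟶ Y) (j : Y ⟶ Z) (j₀ : X ⟶ Z) (w : k ≫ j = j₀) (M : AddCommGrpCat.{u + 1}) :
    (EtCore.pullConstIso k).inv.app M ≫ (EtCoh.pull k).map ((EtCore.pullConstIso j).inv.app M) ≫
        via k j j₀ w ((constantSheaf Z.smallEtaleTopology AddCommGrpCat.{u + 1}).obj M) =
      (EtCore.pullConstIso j₀).inv.app M := by
  let P := (constantSheaf Z.smallEtaleTopology AddCommGrpCat.{u + 1}).obj M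
  let N := (EtCoh.pull j₀).obj P
  refine ((EtCore.constAdj X).homEquiv M _).injective (ConcreteCategory.hom_ext _ _ fun x => ?_)
  refine (sec_pull k M _ _ x).trans ?_
  let y := (EtCore.constAdj Z).unit.app M x
  have hj : sec M ((EtCore.pullConstIso j).inv.app M) x =
      ((EtCoh.pull j).obj P).obj.map (EtCore.bcTopIso j).inv.op (unitSect j P (EtCoh.top Z) y) := by
    rw [sec_pullConst]
    simp only [unitSect, adjSect, Adjunction.homEquiv_id]
    rfl
  have hj₀ : sec M ((EtCore.pullConstIso j₀).inv.app M) x =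
      N.obj.map (EtCore.bcTopIso j₀).inv.op (unitSect j₀ P (EtCoh.top Z) y) := by
    rw [sec_pullConst]
    simp only [unitSect, adjSect, Adjunction.homEquiv_id]
    rfl
  refine Eq.trans ?_ hj₀.symm
  rw [hj]
  have hs : unitSect j₀ P (EtCoh.top Z) y = N.obj.map (bcSplit w.symm (EtCoh.top Z)).op
      (adjSect k (via k j j₀ w P) ((EtCoh.bc j).obj (EtCoh.top Z)) (unitSect j P (EtCoh.top Z) y)) := by
    rw [← adjSect_split k j j₀ w (via k j j₀ w P) (EtCoh.top Z) y, split_via]
  rw [hs]
  have hn := NatTrans.naturality_apply ((EtCoh.pullPushAdj k).homEquiv _ _ (via k j j₀ w P)).hom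
    (EtCore.bcTopIso j).inv.op (unitSect j P (EtCoh.top Z) y)
  refine (congrArg (N.obj.map (EtCore.bcTopIso k).inv.op) hn).trans ?_
  let q := adjSect k (via k j j₀ w P) ((EtCoh.bc j).obj (EtCoh.top Z)) (unitSect j P (EtCoh.top Z) y)
  refine ((ConcreteCategory.congr_hom (N.obj.map_comp ((EtCoh.bc k).map (EtCore.bcTopIso j).inv).op
    (EtCore.bcTopIso k).inv.op) q).symm).trans ?_
  refine Eq.trans ?_ (ConcreteCategory.congr_hom (N.obj.map_comp (bcSplit w.symm (EtCoh.top Z)).op
    (EtCore.bcTopIso j₀).inv.op) q)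
  refine congrArg (fun m => N.obj.map (Quiver.Hom.op m) q) ?_
  exact (IsTerminal.isTerminalObj (EtCoh.bc k) _ (EtCore.bcTopIsTerminal j)).hom_ext _ _

end Groth.Agent.EtMV
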