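import Groth.Agent.EtMV.Generic
import Groth.Agent.EtMV.Const
import Groth.Agent.Et18.Recollement
import Groth.Agent.Et18.JCont

/-!
# Extension by zero of the constant sheaf from an open subscheme
-/

set_option autoImplicit false
set_option linter.all false
set_option backward.isDefEq.respectTransparency.types false
set_option backward.isDefEq.respectTransparency false
set_option backward.defeqAttrib.useBackward true
set_option synthInstance.maxHeartbeats 400000
set_option maxHeartbeats 1000000

universe u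

open CategoryTheory Limits AlgebraicGeometry Opposite CategoryTheory.Abelian
open Groth.Agent.Et18

namespace Groth.Agent.EtMV

variable {U W X : Scheme.{u}}

/-- The constant sheaf of integers. -/
noncomputable abbrev ZZ (X : Scheme.{u}) : EtCoh.Ab X := EtCoh.const X ℤ

variable (j : U ⟶ X) [IsOpenImmersion j]

instance jc : EtShriek.JCont j := Et18.jCont j

/-- Extension by zero, left adjoint to inverse image. -/
noncomputable def shriekAdj : EtShriek.extZero j ⊣ EtCoh.pull j :=
  (EtShriek.extZeroAdj j).ofNatIsoRight (Et18.pullRestrIso j).symm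

instance isIso_shriekAdj_unit : IsIso (shriekAdj j).unit := by
  haveI h : IsIso (EtShriek.extZeroAdj j).unit :=
    (⟨EtShriek.extZeroAdj j, restrPushAdj j⟩ : Adjunction.Triple (EtShriek.extZero j)
      (EtShriek.restrAlong j) (EtCoh.push j)).isIso_unit_iff_isIso_counit.mpr
      (inferInstance : IsIso (restrPushAdj j).counit)
  refine (NatTrans.isIso_iff_isIso_app _).2 fun M => ?_
  have e : (shriekAdj j).unit.app M = (EtShriek.extZeroAdj j).unit.app M ≫
      (Et18.pullRestrIso j).inv.app ((EtShriek.extZero j).obj M) := by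
    simp [shriekAdj]
  rw [e]
  infer_instance

/-- The constant sheaf extended by zero. -/
noncomputable abbrev PP : EtCoh.Ab X := (EtShriek.extZero j).obj (ZZ U)

/-- The canonical identification. -/
noncomputable abbrev phi : ZZ U ⟶ (EtCoh.pull j).obj (ZZ X) := (EtCore.pullConst j ℤ).inv

/-- The canonical map to the constant sheaf. -/
noncomputable def aMap : PP j ⟶ ZZ X := ((shriekAdj j).homEquiv _ _).symm (phi j)

theorem unit_aMap : (shriekAdj j).unit.app (ZZ U) ≫ (EtCoh.pull j).map (aMap j) = phi j := by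
  rw [← (shriekAdj j).homEquiv_unit _ _ (aMap j), aMap, Equiv.apply_symm_apply]

theorem isIso_pull_aMap : IsIso ((EtCoh.pull j).map (aMap j)) := by
  haveI : IsIso ((shriekAdj j).unit.app (ZZ U)) := NatIso.isIso_app_of_isIso _ _
  exact IsIso.of_isIso_fac_left (unit_aMap j)

theorem isIso_stalk_aMap {x : X} (hx : x ∈ Set.range j) : IsIso ((EtCoh.stalk (sepPoint X x)).map (aMap j)) := by
  obtain ⟨y, hy⟩ := hx
  obtain ⟨v, hv, -⟩ := Scheme.exists_fac_of_etale_of_isSepClosed j (sepPoint X x) y
    (hy.trans (sepPoint_default X x).symm)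
  rw [← hv]
  have := isIso_pull_aMap j
  exact isIso_stalk_map_of_pull j v (aMap j)

theorem isZero_stalk_PP {x : X} (hx : x ∉ Set.range j) : IsZero ((EtCoh.stalk (sepPoint X x)).obj (PP j)) := by
  refine IsZero.of_iso ?_ (extZeroStalkIso j _ _)
  have : IsEmpty (PointLift j (sepPoint X x)) := ⟨fun v => hx ⟨v.1 default, by
    have := congrArg (fun t => t default) v.2
    exact this.trans (sepPoint_default X x)⟩⟩
  exact isZero_sigma_of_isEmpty _

/-- Cohomology of the open subscheme as `Ext` on the ambient one. -/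
noncomputable def psi (F : EtCoh.Ab X) (n : ℕ) :
    Ext (PP j) F n →+ EtCoh.H U ((EtCoh.pull j).obj F) n :=
  res (EtCoh.pull j) ((shriekAdj j).unit.app (ZZ U)) n

theorem psi_bijective (F : EtCoh.Ab X) (n : ℕ) : Function.Bijective (psi j F n) :=
  haveI : (EtShriek.extZero j).Additive := (shriekAdj j).left_adjoint_additive
  haveI : PreservesFiniteColimits (EtShriek.extZero j) :=
    have : PreservesColimitsOfSize.{0, 0} (EtShriek.extZero j) := (shriekAdj j).leftAdjoint_preservesColimits
    PreservesColimitsOfSize.preservesFiniteColimits _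
  res_unit_bijective (EtCoh.pull j) (shriekAdj j) (ZZ U) F n

theorem hpull_apply [PreservesFiniteLimits (EtCoh.pull j)] (F : EtCoh.Ab X) (n : ℕ) (e : EtCoh.H X F n) :
    EtCore.Hpull j F n e = res (EtCoh.pull j) (phi j) n e := rfl

theorem hpull_eq [PreservesFiniteLimits (EtCoh.pull j)] (F : EtCoh.Ab X) (n : ℕ) (e : EtCoh.H X F n) :
    EtCore.Hpull j F n e = psi j F n ((Ext.mk₀ (aMap j)).comp e (zero_add n)) := by
  rw [hpull_apply, psi]
  exact (res_comp' (EtCoh.pull j) _ (aMap j) (phi j) (unit_aMap j) n e).symm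

variable (j' : W ⟶ X) [IsOpenImmersion j'] (k : W ⟶ U) (w : k ≫ j = j')

/-- The transformation from the iterated inverse image. -/
noncomputable def tau : EtCoh.pull j ⋙ EtCoh.pull k ⟶ EtCoh.pull j' :=
  ((EtCore.pullComp k j).symm ≪≫ EtCore.pullCongr w).hom

/-- The map between extensions by zero. -/
noncomputable def bMap : PP j' ⟶ PP j :=
  ((shriekAdj j').homEquiv _ _).symm
    (phi k ≫ (EtCoh.pull k).map ((shriekAdj j).unit.app (ZZ U)) ≫ (tau j j' k w).app (PP j))

theorem unit_bMap : (shriekAdj j').unit.app (ZZ W) ≫ (EtCoh.pull j').map (bMap j j' k w) =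
    phi k ≫ (EtCoh.pull k).map ((shriekAdj j).unit.app (ZZ U)) ≫ (tau j j' k w).app (PP j) := by
  rw [← (shriekAdj j').homEquiv_unit _ _ (bMap j j' k w), bMap, Equiv.apply_symm_apply]

theorem bMap_aMap : bMap j j' k w ≫ aMap j = aMap j' := by
  apply ((shriekAdj j').homEquiv _ _).injective
  rw [Adjunction.homEquiv_naturality_right, bMap, Equiv.apply_symm_apply, aMap, aMap, Equiv.apply_symm_apply]
  have hn : (tau j j' k w).app (PP j) ≫ (EtCoh.pull j').map (aMap j) =
      (EtCoh.pull k).map ((EtCoh.pull j).map (aMap j)) ≫ (tau j j' k w).app (ZZ X) :=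
    ((tau j j' k w).naturality (aMap j)).symm
  change (phi k ≫ (EtCoh.pull k).map ((shriekAdj j).unit.app (ZZ U)) ≫ (tau j j' k w).app (PP j)) ≫
    (EtCoh.pull j').map (aMap j) = phi j'
  rw [Category.assoc, Category.assoc, hn]
  have hm : (EtCoh.pull k).map ((shriekAdj j).unit.app (ZZ U)) ≫ (EtCoh.pull k).map ((EtCoh.pull j).map (aMap j)) =
      (EtCoh.pull k).map (phi j) := by
    rw [← Functor.map_comp, unit_aMap]
  rw [reassoc_of% hm]
  exact pullConst_via k j j' w (AddCommGrpCat.of (ULift.{u + 1} ℤ))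

theorem hpullVia_apply [PreservesFiniteLimits (EtCoh.pull k)] (F : EtCoh.Ab X) (n : ℕ)
    (x : EtCoh.H U ((EtCoh.pull j).obj F) n) :
    EtCore.HpullVia k j j' w F n x =
      (res (EtCoh.pull k) (phi k) n x).comp (Ext.mk₀ ((tau j j' k w).app F)) (add_zero n) := rfl

theorem hpullVia_psi [PreservesFiniteLimits (EtCoh.pull k)] (F : EtCoh.Ab X) (n : ℕ) (z : Ext (PP j) F n) :
    EtCore.HpullVia k j j' w F n (psi j F n z) =
      psi j' F n ((Ext.mk₀ (bMap j j' k w)).comp z (zero_add n)) := by
  rw [hpullVia_apply]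
  exact (res_res (EtCoh.pull j) (EtCoh.pull k) (EtCoh.pull j') (tau j j' k w) ((shriekAdj j).unit.app (ZZ U))
    (phi k) _ rfl n z).trans (res_comp' (EtCoh.pull j') _ (bMap j j' k w) _ (unit_bMap j j' k w) n z).symm

theorem isIso_stalk_bMap {x : X} (hx : x ∈ Set.range j') :
    IsIso ((EtCoh.stalk (sepPoint X x)).map (bMap j j' k w)) := by
  have hx' : x ∈ Set.range j := by
    obtain ⟨y, rfl⟩ := hx
    exact ⟨k y, congrArg (fun m => m y) w⟩
  have h1 := isIso_stalk_aMap j hx'
  have h2 := isIso_stalk_aMap j' hx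
  rw [← bMap_aMap j j' k w, Functor.map_comp] at h2
  exact IsIso.of_isIso_comp_right _ ((EtCoh.stalk (sepPoint X x)).map (aMap j))

end Groth.Agent.EtMV
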