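import Groth.Agent.EtMV.Open
import Mathlib.Algebra.Homology.DerivedCategory.Ext.ExactSequences

/-!
# The Mayer–Vietoris sequence of two open subschemes
-/

set_option autoImplicit false
set_option linter.all false
set_option backward.isDefEq.respectTransparency.types false
set_option backward.isDefEq.respectTransparency false
set_option backward.defeqAttrib.useBackward true
set_option synthInstance.maxHeartbeats 400000
set_option maxHeartbeats 1000000

universe w v u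

open CategoryTheory Limits AlgebraicGeometry Opposite CategoryTheory.Abelian
open Groth.Agent.Et18

namespace Groth.Agent.EtMV

section Abstract

variable {C : Type u} [Category.{v} C] [Abelian C] [HasExt.{w} C]

/-- The short complex of a Mayer–Vietoris square. -/
noncomputable abbrev sq {P Q₁ Q₂ Z : C} (b₁ : P ⟶ Q₁) (b₂ : P ⟶ Q₂) (a₁ : Q₁ ⟶ Z) (a₂ : Q₂ ⟶ Z)
    (h : b₁ ≫ a₁ = b₂ ≫ a₂) : ShortComplex C :=
  ShortComplex.mk (biprod.lift b₁ (-b₂)) (biprod.desc a₁ a₂) (by simp [h])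

variable {P Q₁ Q₂ Z : C} (b₁ : P ⟶ Q₁) (b₂ : P ⟶ Q₂) (a₁ : Q₁ ⟶ Z) (a₂ : Q₂ ⟶ Z) (h : b₁ ≫ a₁ = b₂ ≫ a₂)
  (hS : (sq b₁ b₂ a₁ a₂ h).ShortExact) (F : C)

include hS in
/-- The long exact sequence of a Mayer–Vietoris square, transported along bijections. -/
theorem exists_mv {HP HQ₁ HQ₂ : ℕ → Type w} [∀ n, AddCommGroup (HP n)] [∀ n, AddCommGroup (HQ₁ n)]
    [∀ n, AddCommGroup (HQ₂ n)] (ψ : ∀ n, Ext.{w} P F n →+ HP n) (ψ₁ : ∀ n, Ext.{w} Q₁ F n →+ HQ₁ n)
    (ψ₂ : ∀ n, Ext.{w} Q₂ F n →+ HQ₂ n) (hψ : ∀ n, Function.Bijective (ψ n))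
    (hψ₁ : ∀ n, Function.Bijective (ψ₁ n)) (hψ₂ : ∀ n, Function.Bijective (ψ₂ n))
    (r₁ : ∀ n, Ext.{w} Z F n →+ HQ₁ n) (r₂ : ∀ n, Ext.{w} Z F n →+ HQ₂ n)
    (hr₁ : ∀ n e, r₁ n e = ψ₁ n ((Ext.mk₀ a₁).comp e (zero_add n)))
    (hr₂ : ∀ n e, r₂ n e = ψ₂ n ((Ext.mk₀ a₂).comp e (zero_add n)))
    (d₁ : ∀ n, HQ₁ n →+ HP n) (d₂ : ∀ n, HQ₂ n →+ HP n)
    (hd₁ : ∀ n z, d₁ n (ψ₁ n z) = ψ n ((Ext.mk₀ b₁).comp z (zero_add n)))
    (hd₂ : ∀ n z, d₂ n (ψ₂ n z) = ψ n ((Ext.mk₀ b₂).comp z (zero_add n))) :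
    ∃ δ : ∀ n : ℕ, HP n →+ Ext.{w} Z F (n + 1),
      (AddMonoidHom.prod (r₁ 0) (r₂ 0)).ker = ⊥ ∧
      (∀ n : ℕ, (AddMonoidHom.prod (r₁ (n + 1)) (r₂ (n + 1))).ker = (δ n).range) ∧
      (∀ n : ℕ, ((d₁ n).comp (AddMonoidHom.fst _ _) - (d₂ n).comp (AddMonoidHom.snd _ _)).ker =
        (AddMonoidHom.prod (r₁ n) (r₂ n)).range) ∧
      (∀ n : ℕ, (δ n).ker = ((d₁ n).comp (AddMonoidHom.fst _ _) - (d₂ n).comp (AddMonoidHom.snd _ _)).range) := by
  let S := sq b₁ b₂ a₁ a₂ h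
  let e := fun n => AddEquiv.ofBijective (ψ n) (hψ n)
  let δ : ∀ n : ℕ, HP n →+ Ext.{w} Z F (n + 1) := fun n =>
    (AddMonoidHom.mk' (fun z => hS.extClass.comp z (add_comm 1 n)) (fun _ _ => Ext.comp_add _ _ _ _)).comp
      (e n).symm.toAddMonoidHom
  have hδ : ∀ n z, δ n (ψ n z) = hS.extClass.comp z (add_comm 1 n) := fun n z => by
    show hS.extClass.comp ((e n).symm (e n z)) (add_comm 1 n) = _
    rw [AddEquiv.symm_apply_apply]
  have hfz : ∀ n (z : Ext.{w} S.X₂ F n), ψ n ((Ext.mk₀ S.f).comp z (zero_add n)) =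
      d₁ n (ψ₁ n ((Ext.mk₀ biprod.inl).comp z (zero_add n))) - d₂ n (ψ₂ n ((Ext.mk₀ biprod.inr).comp z (zero_add n))) := by
    intro n z
    rw [hd₁, hd₂, Ext.mk₀_comp_mk₀_assoc, Ext.mk₀_comp_mk₀_assoc, ← map_sub, sub_eq_add_neg, ← Ext.neg_comp,
      ← Ext.mk₀_neg, ← Ext.add_comp, ← Ext.mk₀_add]
    congr 3
    rw [← sub_eq_add_neg]
    simp [S, biprod.lift_eq, sub_eq_add_neg]
  have hgz : ∀ n (z : Ext.{w} Z F n), r₁ n z = ψ₁ n ((Ext.mk₀ biprod.inl).comp ((Ext.mk₀ S.g).comp z (zero_add n)) (zero_add n)) ∧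
      r₂ n z = ψ₂ n ((Ext.mk₀ biprod.inr).comp ((Ext.mk₀ S.g).comp z (zero_add n)) (zero_add n)) := by
    intro n z
    rw [hr₁, hr₂, Ext.mk₀_comp_mk₀_assoc, Ext.mk₀_comp_mk₀_assoc, biprod.inl_desc, biprod.inr_desc]
    exact ⟨rfl, rfl⟩
  have hext : ∀ n (z z' : Ext.{w} S.X₂ F n),
      (Ext.mk₀ biprod.inl).comp z (zero_add n) = (Ext.mk₀ biprod.inl).comp z' (zero_add n) →
      (Ext.mk₀ biprod.inr).comp z (zero_add n) = (Ext.mk₀ biprod.inr).comp z' (zero_add n) → z = z' := by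
    intro n z z' h₁ h₂
    have key : ∀ t : Ext.{w} S.X₂ F n, t =
        (Ext.mk₀ biprod.fst).comp ((Ext.mk₀ biprod.inl).comp t (zero_add n)) (zero_add n) +
          (Ext.mk₀ biprod.snd).comp ((Ext.mk₀ biprod.inr).comp t (zero_add n)) (zero_add n) := fun t => by
      rw [Ext.mk₀_comp_mk₀_assoc, Ext.mk₀_comp_mk₀_assoc, ← Ext.add_comp, ← Ext.mk₀_add, biprod.total,
        Ext.mk₀_id_comp]
    rw [key z, key z', h₁, h₂]
  have hzero : ∀ n (z : Ext.{w} Z F n), r₁ n z = 0 → r₂ n z = 0 → (Ext.mk₀ S.g).comp z (zero_add n) = 0 := by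
    intro n z h₁ h₂
    rw [(hgz n z).1, map_eq_zero_iff _ (hψ₁ n).1] at h₁
    rw [(hgz n z).2, map_eq_zero_iff _ (hψ₂ n).1] at h₂
    refine hext n _ 0 ?_ ?_ <;> rw [Ext.comp_zero]
    exacts [h₁, h₂]
  refine ⟨δ, ?_, fun n => ?_, fun n => ?_, fun n => ?_⟩
  · refine (AddSubgroup.eq_bot_iff_forall _).2 fun z hz => ?_
    have hz' := Prod.ext_iff.1 (AddMonoidHom.mem_ker.1 hz)
    have hz0 := hzero 0 z hz'.1 hz'.2
    obtain ⟨g, rfl⟩ := (Ext.mk₀_bijective _ _).2 z
    rw [Ext.mk₀_comp_mk₀] at hz0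
    haveI := hS.epi_g
    have hg : S.g ≫ g = 0 := (Ext.mk₀_bijective _ _).1 (hz0.trans (Ext.mk₀_zero (X := S.X₂) (Y := F)).symm)
    rw [show g = 0 from (cancel_epi S.g).1 (hg.trans comp_zero.symm), Ext.mk₀_zero]
  · ext z
    constructor
    · intro hz
      have hz' := Prod.ext_iff.1 (AddMonoidHom.mem_ker.1 hz)
      obtain ⟨x, hx⟩ := Ext.contravariant_sequence_exact₃ hS F z (hzero _ z hz'.1 hz'.2) (add_comm 1 n)
      exact ⟨ψ n x, (hδ n x).trans hx⟩
    · rintro ⟨y, rfl⟩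
      obtain ⟨x, rfl⟩ := (hψ n).2 y
      have h0 : (Ext.mk₀ S.g).comp (hS.extClass.comp x (add_comm 1 n)) (zero_add (n + 1)) = 0 := by
        rw [← Ext.comp_assoc (Ext.mk₀ S.g) hS.extClass x (zero_add 1) (add_comm 1 n) (by omega),
          hS.comp_extClass, Ext.zero_comp]
      refine AddMonoidHom.mem_ker.2 ?_
      show (r₁ (n + 1) (δ n (ψ n x)), r₂ (n + 1) (δ n (ψ n x))) = 0
      rw [hδ, (hgz (n + 1) _).1, (hgz (n + 1) _).2, h0, Ext.comp_zero, Ext.comp_zero, map_zero, map_zero]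
      rfl
  · ext ⟨y₁, y₂⟩
    constructor
    · intro hy
      obtain ⟨z₁, rfl⟩ := (hψ₁ n).2 y₁
      obtain ⟨z₂, rfl⟩ := (hψ₂ n).2 y₂
      let z : Ext.{w} S.X₂ F n :=
        (Ext.mk₀ biprod.fst).comp z₁ (zero_add n) + (Ext.mk₀ biprod.snd).comp z₂ (zero_add n)
      have e₁ : (Ext.mk₀ biprod.inl).comp z (zero_add n) = z₁ := by
        simp [z, Ext.comp_add, Ext.mk₀_comp_mk₀_assoc, Ext.mk₀_id_comp, Ext.mk₀_zero, Ext.zero_comp]
      have e₂ : (Ext.mk₀ biprod.inr).comp z (zero_add n) = z₂ := by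
        simp [z, Ext.comp_add, Ext.mk₀_comp_mk₀_assoc, Ext.mk₀_id_comp, Ext.mk₀_zero, Ext.zero_comp]
      have h0 : (Ext.mk₀ S.f).comp z (zero_add n) = 0 := by
        apply (hψ n).1
        rw [hfz, e₁, e₂, map_zero]
        exact hy
      obtain ⟨x, hx⟩ := Ext.contravariant_sequence_exact₂ hS F z h0
      refine ⟨x, Prod.ext ?_ ?_⟩
      · exact ((hgz n x).1).trans (congrArg (ψ₁ n) ((congrArg (fun t => (Ext.mk₀ biprod.inl).comp t (zero_add n)) hx).trans e₁))
      · exact ((hgz n x).2).trans (congrArg (ψ₂ n) ((congrArg (fun t => (Ext.mk₀ biprod.inr).comp t (zero_add n)) hx).trans e₂))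
    · rintro ⟨x, hx⟩
      rw [← hx]
      refine AddMonoidHom.mem_ker.2 ?_
      show d₁ n (r₁ n x) - d₂ n (r₂ n x) = 0
      rw [(hgz n x).1, (hgz n x).2, ← hfz, Ext.mk₀_comp_mk₀_assoc, S.zero, Ext.mk₀_zero, Ext.zero_comp, map_zero]
  · ext y
    constructor
    · intro hy
      obtain ⟨x, rfl⟩ := (hψ n).2 y
      obtain ⟨z, hz⟩ := Ext.contravariant_sequence_exact₁ hS F x (add_comm 1 n) ((hδ n x).symm.trans hy)
      refine ⟨(ψ₁ n ((Ext.mk₀ biprod.inl).comp z (zero_add n)), ψ₂ n ((Ext.mk₀ biprod.inr).comp z (zero_add n))), ?_⟩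
      exact (hfz n z).symm.trans (congrArg (ψ n) hz)
    · rintro ⟨⟨y₁, y₂⟩, rfl⟩
      obtain ⟨z₁, rfl⟩ := (hψ₁ n).2 y₁
      obtain ⟨z₂, rfl⟩ := (hψ₂ n).2 y₂
      refine AddMonoidHom.mem_ker.2 ?_
      show δ n (d₁ n (ψ₁ n z₁) - d₂ n (ψ₂ n z₂)) = 0
      rw [hd₁, hd₂, ← map_sub, hδ]
      have : ((Ext.mk₀ b₁).comp z₁ (zero_add n) - (Ext.mk₀ b₂).comp z₂ (zero_add n)) =
          (Ext.mk₀ S.f).comp ((Ext.mk₀ biprod.fst).comp z₁ (zero_add n) + (Ext.mk₀ biprod.snd).comp z₂ (zero_add n)) (zero_add n) := by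
        simp [S, Ext.comp_add, Ext.mk₀_comp_mk₀_assoc, Ext.mk₀_neg, Ext.neg_comp, sub_eq_add_neg]
      rw [this, ← Ext.comp_assoc hS.extClass (Ext.mk₀ S.f) _ (add_zero 1) (zero_add n) (by omega),
        hS.extClass_comp, Ext.zero_comp]

end Abstract

variable {X : Scheme.{u}} {U V W : Scheme.{u}} (jU : U ⟶ X) (jV : V ⟶ X) (jW : W ⟶ X)
  [IsOpenImmersion jU] [IsOpenImmersion jV] [IsOpenImmersion jW]
  (kU : W ⟶ U) (wU : kU ≫ jU = jW) (kV : W ⟶ V) (wV : kV ≫ jV = jW)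

/-- The square of constant sheaves extended by zero. -/
theorem shortExact_square (hcov : ∀ x : X, x ∈ Set.range jU ∨ x ∈ Set.range jV)
    (hW : ∀ x : X, x ∈ Set.range jW ↔ x ∈ Set.range jU ∧ x ∈ Set.range jV) :
    (sq (bMap jU jW kU wU) (bMap jV jW kV wV) (aMap jU) (aMap jV)
      ((bMap_aMap jU jW kU wU).trans (bMap_aMap jV jW kV wV).symm)).ShortExact := by
  let b₁ := bMap jU jW kU wU
  let b₂ := bMap jV jW kV wV
  let S := sq b₁ b₂ (aMap jU) (aMap jV) ((bMap_aMap jU jW kU wU).trans (bMap_aMap jV jW kV wV).symm)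
  haveI : Mono b₁ := mono_of_stalks _ fun x => by
    by_cases hx : x ∈ Set.range jW
    · haveI := isIso_stalk_bMap jU jW kU wU hx
      exact ((ConcreteCategory.isIso_iff_bijective ((EtCoh.stalk (sepPoint X x)).map b₁)).1 inferInstance).1
    · exact fun _ _ _ => (AddCommGrpCat.subsingleton_of_isZero (isZero_stalk_PP jW hx)).elim _ _
  have hmono : Mono S.f := mono_of_mono_fac (biprod.lift_fst b₁ (-b₂))
  have hepi : Epi S.g := epi_of_stalks _ fun x => by
    rcases hcov x with hx | hx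
    · haveI := isIso_stalk_aMap jU hx
      have e : (EtCoh.stalk (sepPoint X x)).map biprod.inl ≫ (EtCoh.stalk (sepPoint X x)).map S.g =
          (EtCoh.stalk (sepPoint X x)).map (aMap jU) := by
        rw [← Functor.map_comp]; exact congrArg _ (biprod.inl_desc _ _)
      exact (AddCommGrpCat.epi_iff_surjective _).1 (epi_of_epi_fac e)
    · haveI := isIso_stalk_aMap jV hx
      have e : (EtCoh.stalk (sepPoint X x)).map biprod.inr ≫ (EtCoh.stalk (sepPoint X x)).map S.g =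
          (EtCoh.stalk (sepPoint X x)).map (aMap jV) := by
        rw [← Functor.map_comp]; exact congrArg _ (biprod.inr_desc _ _)
      exact (AddCommGrpCat.epi_iff_surjective _).1 (epi_of_epi_fac e)
  refine { exact := exact_of_stalks _ fun x => ?_ }
  let st := EtCoh.stalk (sepPoint X x)
  haveI : PreservesFiniteLimits st := Et18.stalk_preservesFiniteLimits (sepPoint X x)
  haveI : st.Additive := Functor.additive_of_preserves_binary_products _
  rw [ShortComplex.ab_exact_iff]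
  intro t ht
  let p := st.map biprod.fst t
  let q := st.map biprod.snd t
  have htot : t = st.map biprod.inl p + st.map biprod.inr q := by
    have e : 𝟙 (st.obj S.X₂) = st.map biprod.fst ≫ st.map biprod.inl + st.map biprod.snd ≫ st.map biprod.inr := by
      rw [← Functor.map_comp, ← Functor.map_comp, ← Functor.map_add, biprod.total, CategoryTheory.Functor.map_id]
    exact ConcreteCategory.congr_hom e t
  have h0 : st.map (aMap jU) p + st.map (aMap jV) q = 0 := by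
    have e1 : st.map biprod.inl ≫ st.map S.g = st.map (aMap jU) := by
      rw [← Functor.map_comp]; exact congrArg _ (biprod.inl_desc _ _)
    have e2 : st.map biprod.inr ≫ st.map S.g = st.map (aMap jV) := by
      rw [← Functor.map_comp]; exact congrArg _ (biprod.inr_desc _ _)
    rw [← e1, ← e2]
    refine Eq.trans ?_ ht
    show st.map S.g (st.map biprod.inl p) + st.map S.g (st.map biprod.inr q) = st.map S.g t
    rw [← map_add, ← htot]
  have hf : ∀ r, st.map S.f r = st.map biprod.inl (st.map b₁ r) - st.map biprod.inr (st.map b₂ r) := fun r => by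
    have e : st.map S.f = st.map b₁ ≫ st.map biprod.inl - st.map b₂ ≫ st.map biprod.inr := by
      rw [← Functor.map_comp, ← Functor.map_comp, ← Functor.map_sub]
      exact congrArg _ (by simp [S, biprod.lift_eq, sub_eq_add_neg])
    exact ConcreteCategory.congr_hom e r
  have zU : x ∉ Set.range jU → ∀ y : st.obj (PP jU), y = 0 := fun hx y =>
    (AddCommGrpCat.subsingleton_of_isZero (isZero_stalk_PP jU hx)).elim _ _
  have zV : x ∉ Set.range jV → ∀ y : st.obj (PP jV), y = 0 := fun hx y =>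
    (AddCommGrpCat.subsingleton_of_isZero (isZero_stalk_PP jV hx)).elim _ _
  by_cases hU : x ∈ Set.range jU
  · haveI := isIso_stalk_aMap jU hU
    have injU := ((ConcreteCategory.isIso_iff_bijective (st.map (aMap jU))).1 inferInstance).1
    by_cases hV : x ∈ Set.range jV
    · have hx : x ∈ Set.range jW := (hW x).2 ⟨hU, hV⟩
      haveI := isIso_stalk_aMap jV hV
      have injV := ((ConcreteCategory.isIso_iff_bijective (st.map (aMap jV))).1 inferInstance).1
      haveI := isIso_stalk_bMap jU jW kU wU hx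
      obtain ⟨r, hr⟩ := ((ConcreteCategory.isIso_iff_bijective (st.map b₁)).1 inferInstance).2 p
      have hq : q = -(st.map b₂ r) := by
        apply injV
        rw [map_neg]
        have e : st.map (aMap jV) (st.map b₂ r) = st.map (aMap jU) (st.map b₁ r) := by
          have := ConcreteCategory.congr_hom (congrArg st.map
            ((bMap_aMap jV jW kV wV).trans (bMap_aMap jU jW kU wU).symm)) r
          simpa only [Functor.map_comp, ConcreteCategory.comp_apply] using this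
        rw [e, hr]
        exact eq_neg_of_add_eq_zero_right h0
      refine ⟨r, ?_⟩
      change st.map S.f r = t
      rw [hf, htot, hr, hq, map_neg, sub_eq_add_neg]
    · have hq := zV hV q
      have hp : p = 0 := injU (by rw [map_zero]; simpa [hq] using h0)
      exact ⟨0, (map_zero _).trans (by rw [htot, hp, hq, map_zero, map_zero, add_zero])⟩
  · have hp := zU hU p
    have hV : x ∈ Set.range jV := (hcov x).resolve_left hU
    haveI := isIso_stalk_aMap jV hV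
    have injV := ((ConcreteCategory.isIso_iff_bijective (st.map (aMap jV))).1 inferInstance).1
    have hq : q = 0 := injV (by rw [map_zero]; simpa [hp] using h0)
    exact ⟨0, (map_zero _).trans (by rw [htot, hp, hq, map_zero, map_zero, add_zero])⟩

end Groth.Agent.EtMV
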